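import Mathlib.AlgebraicGeometry.AffineSpace
import Mathlib.AlgebraicGeometry.Morphisms.UniversallyClosed
import Mathlib.AlgebraicGeometry.Morphisms.Affine
import Mathlib.AlgebraicGeometry.Fiber

/-!
Universal closedness is tested on base changes to affine spaces.
-/

universe u

open CategoryTheory CategoryTheory.Limits AlgebraicGeometry TopologicalSpace

namespace GrothLib.UCTest

variable {S : Scheme.{u}}

/-- The coordinate ring of a pushout of rings is generated by the two images. -/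
lemma closure_range_union_eq_top {R A B P : CommRingCat.{u}} {f : R ⟶ A} {g : R ⟶ B} {i : A ⟶ P}
    {j : B ⟶ P} (h : IsPushout f g i j) :
    Subring.closure (Set.range i.hom ∪ Set.range j.hom) = ⊤ := by
  let T := Subring.closure (Set.range i.hom ∪ Set.range j.hom)
  let i' : A ⟶ .of T := CommRingCat.ofHom
    (i.hom.codRestrict T fun a ↦ Subring.subset_closure (Or.inl ⟨a, rfl⟩))
  let j' : B ⟶ .of T := CommRingCat.ofHom
    (j.hom.codRestrict T fun a ↦ Subring.subset_closure (Or.inr ⟨a, rfl⟩))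
  have w : f ≫ i' = g ≫ j' := by
    ext r
    exact ConcreteCategory.congr_hom h.w r
  have key : h.desc i' j' w ≫ CommRingCat.ofHom T.subtype = 𝟙 P := by
    apply h.hom_ext
    · rw [h.inl_desc_assoc, Category.comp_id]; rfl
    · rw [h.inr_desc_assoc, Category.comp_id]; rfl
  refine eq_top_iff.mpr fun p _ ↦ ?_
  rw [← show ((h.desc i' j' w).hom p : P) = p from ConcreteCategory.congr_hom key p]
  exact ((h.desc i' j' w).hom p).2

/-- Opens of a fibre product of affines come from finitely many coordinates. -/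
lemma exists_finset_basicOpen {U W V : Scheme.{u}} [IsAffine U] [IsAffine W] [IsAffine V]
    (a : U ⟶ V) (b : W ⟶ V) (O : (pullback a b).Opens) (z : ↥(pullback a b)) (hz : z ∈ O) :
    ∃ s : Finset Γ(W, ⊤), ∀ (n : Type u) (v : n → Γ(W, ⊤)), (∀ x ∈ s, x ∈ Set.range v) →
      ∃ O' : (pullback a (𝔸(n; V) ↘ V)).Opens,
        (pullback.map a b a (𝔸(n; V) ↘ V) (𝟙 U) (AffineSpace.homOfVector b v) (𝟙 V)
          (by simp) (by simp)).base z ∈ O' ∧
        (pullback.map a b a (𝔸(n; V) ↘ V) (𝟙 U) (AffineSpace.homOfVector b v) (𝟙 V)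
          (by simp) (by simp)) ⁻¹ᵁ O' ≤ O := by
  classical
  have hP : IsPushout a.appTop b.appTop (pullback.fst a b).appTop (pullback.snd a b).appTop :=
    isPushout_appTop_of_isPullback (IsPullback.of_hasPullback a b)
  obtain ⟨_, ⟨_, ⟨h, rfl⟩, rfl⟩, hzh, hhO⟩ :=
    (isBasis_basicOpen (pullback a b)).exists_subset_of_mem_open (show z ∈ (O : Set _) from hz) O.2
  obtain ⟨s, hs⟩ : ∃ s : Finset Γ(W, ⊤), ∀ (n : Type u) (v : n → Γ(W, ⊤)), (∀ x ∈ s, x ∈ Set.range v) →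
      ∃ g : Γ(pullback a (𝔸(n; V) ↘ V), ⊤),
        (pullback.map a b a (𝔸(n; V) ↘ V) (𝟙 U) (AffineSpace.homOfVector b v) (𝟙 V)
          (by simp) (by simp)).appTop g = h := by
    have hh : h ∈ Subring.closure (Set.range (pullback.fst a b).appTop.hom ∪
        Set.range (pullback.snd a b).appTop.hom) := by
      rw [closure_range_union_eq_top hP]; trivial
    clear hzh hhO
    induction hh using Subring.closure_induction with
    | mem x hx =>
      rcases hx with ⟨r, rfl⟩ | ⟨r, rfl⟩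
      · refine ⟨∅, fun n v _ ↦ ⟨(pullback.fst a (𝔸(n; V) ↘ V)).appTop r, ?_⟩⟩
        rw [← CommRingCat.comp_apply, ← Scheme.Hom.comp_appTop, pullback.lift_fst, Category.comp_id]
      · refine ⟨{r}, fun n v hv ↦ ?_⟩
        obtain ⟨i, rfl⟩ := hv r (Finset.mem_singleton_self r)
        refine ⟨(pullback.snd a (𝔸(n; V) ↘ V)).appTop (AffineSpace.coord V i), ?_⟩
        rw [← CommRingCat.comp_apply, ← Scheme.Hom.comp_appTop, pullback.lift_snd, Scheme.Hom.comp_appTop,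
          CommRingCat.comp_apply, AffineSpace.homOfVector_appTop_coord]
    | zero => exact ⟨∅, fun n v _ ↦ ⟨0, map_zero _⟩⟩
    | one => exact ⟨∅, fun n v _ ↦ ⟨1, map_one _⟩⟩
    | neg x _ hx =>
      obtain ⟨s, hs⟩ := hx
      refine ⟨s, fun n v hv ↦ ?_⟩
      obtain ⟨g, hg⟩ := hs n v hv
      exact ⟨-g, by rw [map_neg, hg]⟩
    | add x y _ _ hx hy =>
      obtain ⟨s, hs⟩ := hx
      obtain ⟨t, ht⟩ := hy
      refine ⟨s ∪ t, fun n v hv ↦ ?_⟩
      obtain ⟨g, hg⟩ := hs n v fun x hx ↦ hv x (Finset.mem_union_left t hx)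
      obtain ⟨g', hg'⟩ := ht n v fun x hx ↦ hv x (Finset.mem_union_right s hx)
      exact ⟨g + g', by rw [map_add, hg, hg']⟩
    | mul x y _ _ hx hy =>
      obtain ⟨s, hs⟩ := hx
      obtain ⟨t, ht⟩ := hy
      refine ⟨s ∪ t, fun n v hv ↦ ?_⟩
      obtain ⟨g, hg⟩ := hs n v fun x hx ↦ hv x (Finset.mem_union_left t hx)
      obtain ⟨g', hg'⟩ := ht n v fun x hx ↦ hv x (Finset.mem_union_right s hx)
      exact ⟨g * g', by rw [map_mul, hg, hg']⟩
  refine ⟨s, fun n v hv ↦ ?_⟩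
  obtain ⟨g, hg⟩ := hs n v hv
  refine ⟨(pullback a (𝔸(n; V) ↘ V)).basicOpen g, ?_, ?_⟩
  · rw [← Scheme.Hom.mem_preimage]
    rw [Scheme.preimage_basicOpen_top, hg]
    exact hzh
  · rw [Scheme.preimage_basicOpen_top, hg]
    exact hhO

lemma exists_nhd_disjoint {X W : Scheme.{u}} (f : X ⟶ S) [QuasiCompact f] [IsAffine W] (V : S.Opens)
    (hV : IsAffineOpen V) (b : W ⟶ V)
    (H : ∀ n : ℕ, IsClosedMap (pullback.snd f (𝔸(ULift.{u} (Fin n); S) ↘ S)).base)
    (Z : Set ↥(pullback f (b ≫ V.ι))) (hZ : IsClosed Z) (t : W)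
    (ht : ∀ z ∈ Z, (pullback.snd f (b ≫ V.ι)).base z ≠ t) :
    ∃ N : Set W, IsOpen N ∧ t ∈ N ∧ ∀ z ∈ Z, (pullback.snd f (b ≫ V.ι)).base z ∉ N := by
  classical
  have : IsAffine V.toScheme := hV
  let gW := b ≫ V.ι
  let p₁ := pullback.fst f gW
  let p₂ := pullback.snd f gW
  let F := p₂.base ⁻¹' {t}
  have hF : IsCompact F := p₂.isCompact_preimage_singleton t
  have key : ∀ z ∈ F, ∃ (U : X.Opens) (_ : IsAffineOpen U) (e : U ≤ f ⁻¹ᵁ V) (s : Finset Γ(W, ⊤)),
      p₁.base z ∈ U ∧ ∀ (n : ℕ) (v : ULift.{u} (Fin n) → Γ(W, ⊤)), (∀ x ∈ s, x ∈ Set.range v) →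
        ∃ O' : (pullback f (𝔸(ULift.{u} (Fin n); S) ↘ S)).Opens,
          (pullback.map f gW f (𝔸(ULift.{u} (Fin n); S) ↘ S) (𝟙 X) (AffineSpace.homOfVector gW v) (𝟙 S)
            (by simp) (by simp)).base z ∈ O' ∧
          ∀ z', (pullback.map f gW f (𝔸(ULift.{u} (Fin n); S) ↘ S) (𝟙 X) (AffineSpace.homOfVector gW v) (𝟙 S)
            (by simp) (by simp)).base z' ∈ O' → z' ∉ Z := by
    intro z hz
    have hx : p₁.base z ∈ f ⁻¹ᵁ V := by
      show f.base (p₁.base z) ∈ V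
      rw [← Scheme.Hom.comp_apply, pullback.condition]
      exact (b.base (p₂.base z)).2
    obtain ⟨_, ⟨(U : X.Opens), hU, rfl⟩, hxU, hUV⟩ :=
      X.isBasis_affineOpens.exists_subset_of_mem_open hx (f ⁻¹ᵁ V).2
    have : IsAffine U.toScheme := hU
    let a := f.resLE V U hUV
    have ha : a ≫ V.ι = U.ι ≫ f := Scheme.Hom.resLE_comp_ι f hUV
    let m := pullback.map a b f gW U.ι (𝟙 W) V.ι ha (Category.id_comp gW).symm
    have hm : z ∈ Set.range m.base := by
      rw [Scheme.Pullback.range_map]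
      refine ⟨?_, ⟨p₂.base z, rfl⟩⟩
      rw [Scheme.Opens.range_ι]; exact hxU
    obtain ⟨z₀, rfl⟩ := hm
    obtain ⟨s, hs⟩ := exists_finset_basicOpen a b
      ⟨m.base ⁻¹' Zᶜ, hZ.isOpen_compl.preimage m.continuous⟩ z₀ (fun h ↦ ht _ h hz)
    refine ⟨U, hU, hUV, s, hxU, fun n v hv ↦ ?_⟩
    obtain ⟨O₁, hO₁, hO₁'⟩ := hs _ v hv
    have : IsOpenImmersion (AffineSpace.map (ULift.{u} (Fin n)) V.ι) :=
      MorphismProperty.of_isPullback (P := @IsOpenImmersion) (AffineSpace.isPullback_map (n := ULift.{u} (Fin n)) V.ι).flip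
        inferInstance
    let m' := pullback.map a (𝔸(ULift.{u} (Fin n); V) ↘ (V : Scheme.{u})) f (𝔸(ULift.{u} (Fin n); S) ↘ S)
      U.ι (AffineSpace.map _ V.ι) V.ι ha (AffineSpace.map_over V.ι).symm
    have hv' : AffineSpace.homOfVector b v ≫ AffineSpace.map _ V.ι = AffineSpace.homOfVector gW v := by
      apply AffineSpace.hom_ext
      · rw [Category.assoc, AffineSpace.map_over, AffineSpace.homOfVector_over_assoc,
          AffineSpace.homOfVector_over]
      · intro i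
        rw [Scheme.Hom.comp_appTop, CommRingCat.comp_apply, AffineSpace.map_appTop_coord,
          AffineSpace.homOfVector_appTop_coord, AffineSpace.homOfVector_appTop_coord]
    have hcomm : m ≫ pullback.map f gW f (𝔸(ULift.{u} (Fin n); S) ↘ S) (𝟙 X) (AffineSpace.homOfVector gW v) (𝟙 S)
          (by simp) (by simp) =
        pullback.map a b a (𝔸(ULift.{u} (Fin n); V) ↘ (V : Scheme.{u})) (𝟙 _) (AffineSpace.homOfVector b v) (𝟙 _)
          (by simp) (by simp) ≫ m' := by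
      apply pullback.hom_ext
      · simp only [m, m', pullback.map, Category.assoc, pullback.lift_fst, pullback.lift_fst_assoc, Category.comp_id, Category.id_comp]
      · simp only [m, m', pullback.map, Category.assoc, pullback.lift_snd, pullback.lift_snd_assoc, hv', Category.comp_id, Category.id_comp]
    refine ⟨m' ''ᵁ O₁, ?_, fun z' hz' ↦ ?_⟩
    · rw [← Scheme.Hom.comp_apply, hcomm, Scheme.Hom.comp_apply]
      exact ⟨_, hO₁, rfl⟩
    obtain ⟨q, hq, hq'⟩ := hz'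
    have hz'U : z' ∈ Set.range m.base := by
      rw [Scheme.Pullback.range_map]
      refine ⟨?_, ⟨_, rfl⟩⟩
      refine ⟨(pullback.fst a _).base q, ?_⟩
      show (pullback.fst a _ ≫ U.ι).base q = _
      rw [← pullback.lift_fst (pullback.fst a (𝔸(ULift.{u} (Fin n); V) ↘ (V : Scheme.{u})) ≫ U.ι)
        (pullback.snd a _ ≫ AffineSpace.map _ V.ι) (by
          rw [Category.assoc, ← ha, pullback.condition_assoc, Category.assoc, AffineSpace.map_over])]
      show (pullback.fst f _).base (m'.base q) = _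
      refine (congrArg (pullback.fst f _).base hq').trans ?_
      rw [← Scheme.Hom.comp_apply, pullback.lift_fst, Category.comp_id]
    obtain ⟨z₁, rfl⟩ := hz'U
    rw [← Scheme.Hom.comp_apply, hcomm, Scheme.Hom.comp_apply] at hq'
    have h1 := m'.isOpenEmbedding.injective hq'
    rw [h1] at hq
    exact hO₁' hq
  choose! U hU hUV s hxU hs using key
  have hcov : F ⊆ ⋃ z : F, p₁.base ⁻¹' (U z.1 : Set X) := fun z hz ↦
    Set.mem_iUnion.mpr ⟨⟨z, hz⟩, hxU z hz⟩
  let w : Finset Γ(W, ⊤) → Σ n : ℕ, ULift.{u} (Fin n) → Γ(W, ⊤) := fun σ ↦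
    ⟨σ.card, fun i ↦ (σ.equivFin.symm i.down : Γ(W, ⊤))⟩
  have hw : ∀ σ, ∀ x ∈ σ, x ∈ Set.range (w σ).2 := fun σ x hx ↦
    ⟨⟨σ.equivFin ⟨x, hx⟩⟩, by simp [w]⟩
  -- neighbourhoods in the source on which the local constructions apply
  have key2 : ∀ z : F, ∃ Nz : Set ↥(pullback f gW), IsOpen Nz ∧ z.1 ∈ Nz ∧
      ∀ σ : Finset Γ(W, ⊤), s z.1 ⊆ σ → ∃ O' : (pullback f (𝔸(ULift.{u} (Fin (w σ).1); S) ↘ S)).Opens,
        (∀ z₁ ∈ Nz, (pullback.map f gW f (𝔸(ULift.{u} (Fin (w σ).1); S) ↘ S) (𝟙 X)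
            (AffineSpace.homOfVector gW (w σ).2) (𝟙 S) (by simp) (by simp)).base z₁ ∈ O') ∧
        ∀ z', (pullback.map f gW f (𝔸(ULift.{u} (Fin (w σ).1); S) ↘ S) (𝟙 X)
            (AffineSpace.homOfVector gW (w σ).2) (𝟙 S) (by simp) (by simp)).base z' ∈ O' → z' ∉ Z := by
    intro z
    obtain ⟨O', h1, h2⟩ := hs z.1 z.2 _ (w (s z.1)).2 (hw _)
    refine ⟨_, O'.2.preimage (pullback.map f gW f _ (𝟙 X) (AffineSpace.homOfVector gW (w (s z.1)).2) (𝟙 S)
      (by simp) (by simp)).continuous, h1, fun σ hσ ↦ ?_⟩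
    -- reindex coordinates
    have hmem : ∀ i : ULift.{u} (Fin (w (s z.1)).1), ∃ j, (w σ).2 j = (w (s z.1)).2 i := fun i ↦
      hw σ _ (hσ ((s z.1).equivFin.symm i.down).2)
    choose r hr using hmem
    let π := AffineSpace.reindex r S
    have hπ : AffineSpace.homOfVector gW (w σ).2 ≫ π = AffineSpace.homOfVector gW (w (s z.1)).2 := by
      apply AffineSpace.hom_ext
      · rw [Category.assoc, AffineSpace.reindex_over, AffineSpace.homOfVector_over, AffineSpace.homOfVector_over]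
      · intro i
        rw [Scheme.Hom.comp_appTop, CommRingCat.comp_apply, AffineSpace.reindex_appTop_coord,
          AffineSpace.homOfVector_appTop_coord, AffineSpace.homOfVector_appTop_coord, hr]
    let Pm := pullback.map f (𝔸(ULift.{u} (Fin (w σ).1); S) ↘ S) f (𝔸(ULift.{u} (Fin (w (s z.1)).1); S) ↘ S)
      (𝟙 X) π (𝟙 S) (by simp) (by simp [π])
    have hPm : pullback.map f gW f _ (𝟙 X) (AffineSpace.homOfVector gW (w σ).2) (𝟙 S) (by simp) (by simp) ≫ Pm =
        pullback.map f gW f _ (𝟙 X) (AffineSpace.homOfVector gW (w (s z.1)).2) (𝟙 S) (by simp) (by simp) := by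
      apply pullback.hom_ext
      · simp only [Pm, Category.assoc, pullback.lift_fst, Category.comp_id, pullback.lift_fst_assoc]
      · simp only [Pm, Category.assoc, pullback.lift_snd, pullback.lift_snd_assoc, hπ]
    refine ⟨Pm ⁻¹ᵁ O', fun z₁ h ↦ ?_, fun z' h ↦ h2 z' ?_⟩
    · show Pm.base _ ∈ O'
      rw [← Scheme.Hom.comp_apply, hPm]; exact h
    · rw [← hPm, Scheme.Hom.comp_apply]; exact h
  choose N hNo hzN hN using key2
  obtain ⟨σ₀, hσ₀⟩ := hF.elim_finite_subcover (fun z : F ↦ N z) hNo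
    fun z hz ↦ Set.mem_iUnion.mpr ⟨⟨z, hz⟩, hzN ⟨z, hz⟩⟩
  let σ := σ₀.biUnion fun z ↦ s z.1
  choose! O' hO'1 hO'2 using fun z (hz : z ∈ σ₀) ↦ hN z σ (Finset.subset_biUnion_of_mem (fun z : F ↦ s z.1) hz)
  let φ := AffineSpace.homOfVector gW (w σ).2
  let Ψ := pullback.map f gW f (𝔸(ULift.{u} (Fin (w σ).1); S) ↘ S) (𝟙 X) φ (𝟙 S) (by simp) (by simp [φ])
  let G : Set ↥(pullback f (𝔸(ULift.{u} (Fin (w σ).1); S) ↘ S)) := ⋃ z ∈ σ₀, (O' z : Set _)
  have hG : IsOpen G := isOpen_biUnion fun z _ ↦ (O' z).2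
  have hcl := H (w σ).1 Gᶜ hG.isClosed_compl
  have hsq : IsPullback Ψ p₂ (pullback.snd f (𝔸(ULift.{u} (Fin (w σ).1); S) ↘ S)) φ := by
    refine IsPullback.of_right ?_ (pullback.lift_snd _ _ _)
      (IsPullback.of_hasPullback f (𝔸(ULift.{u} (Fin (w σ).1); S) ↘ S))
    rw [pullback.lift_fst, Category.comp_id, AffineSpace.homOfVector_over]
    exact IsPullback.of_hasPullback f gW
  refine ⟨φ.base ⁻¹' ((pullback.snd f (𝔸(ULift.{u} (Fin (w σ).1); S) ↘ S)).base '' Gᶜ)ᶜ,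
    hcl.isOpen_compl.preimage φ.continuous, ?_, ?_⟩
  · rintro ⟨y, hy, hyt⟩
    obtain ⟨z, hz1, hz2⟩ := Scheme.exists_preimage_of_isPullback hsq y t hyt
    obtain ⟨i, hi, hzi⟩ := Set.mem_iUnion₂.mp (hσ₀ (show z ∈ F from hz2))
    exact hy (Set.mem_iUnion₂.mpr ⟨i, hi, hz1 ▸ hO'1 i hi z hzi⟩)
  · intro z hzZ hzN'
    have : Ψ.base z ∈ G := by
      by_contra hzG
      refine hzN' ⟨Ψ.base z, hzG, ?_⟩
      rw [← Scheme.Hom.comp_apply, ← Scheme.Hom.comp_apply, pullback.lift_snd]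
    obtain ⟨i, hi, hzi⟩ := Set.mem_iUnion₂.mp this
    exact hO'2 i hi z hzi hzZ

/-- A quasi-compact morphism is universally closed if its base changes to affine spaces are closed. -/
theorem universallyClosed_of_affineSpace {X : Scheme.{u}} (f : X ⟶ S) [QuasiCompact f]
    (H : ∀ n : ℕ, IsClosedMap (pullback.snd f (𝔸(ULift.{u} (Fin n); S) ↘ S)).base) :
    UniversallyClosed f := by
  have main : ∀ (T : Scheme.{u}) (g : T ⟶ S), IsClosedMap (pullback.snd f g).base := by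
    intro T g Z hZ
    rw [← isOpen_compl_iff, isOpen_iff_forall_mem_open]
    intro t ht
    obtain ⟨_, ⟨(V : S.Opens), hV, rfl⟩, hgt, -⟩ :=
      S.isBasis_affineOpens.exists_subset_of_mem_open (Set.mem_univ (g.base t)) isOpen_univ
    obtain ⟨_, ⟨(W : T.Opens), hW, rfl⟩, htW, hWV⟩ :=
      T.isBasis_affineOpens.exists_subset_of_mem_open (show t ∈ g ⁻¹ᵁ V from hgt) (g ⁻¹ᵁ V).2
    have : IsAffine W.toScheme := hW
    let b := g.resLE V W hWV
    have hb : b ≫ V.ι = W.ι ≫ g := Scheme.Hom.resLE_comp_ι g hWV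
    let e := pullback.map f (b ≫ V.ι) f g (𝟙 X) W.ι (𝟙 S) (by simp) (by simp [hb])
    have he : e ≫ pullback.snd f g = pullback.snd f (b ≫ V.ι) ≫ W.ι := pullback.lift_snd _ _ _
    obtain ⟨N, hNo, htN, hN⟩ := exists_nhd_disjoint f V hV b H (e.base ⁻¹' Z)
      (hZ.preimage e.continuous) ⟨t, htW⟩ fun z hz h ↦ ht ⟨e.base z, hz, by
        rw [← Scheme.Hom.comp_apply, he, Scheme.Hom.comp_apply, h]; rfl⟩
    refine ⟨W.ι.base '' N, ?_, W.ι.isOpenEmbedding.isOpenMap _ hNo, ⟨_, htN, rfl⟩⟩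
    rintro _ ⟨w, hw, rfl⟩ ⟨z, hz, hzw⟩
    obtain ⟨z', rfl⟩ : z ∈ Set.range e.base := by
      rw [Scheme.Pullback.range_map]
      exact ⟨⟨_, rfl⟩, ⟨w, hzw.symm⟩⟩
    refine hN z' hz ?_
    rw [← Scheme.Hom.comp_apply, he, Scheme.Hom.comp_apply] at hzw
    rwa [W.ι.isOpenEmbedding.injective hzw]
  refine ⟨fun X' Y' i₁ i₂ f' h ↦ ?_⟩
  show IsClosedMap f'.base
  rw [← h.flip.isoPullback_hom_snd]
  exact (main Y' i₂).comp h.flip.isoPullback.hom.homeomorph.isClosedMap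

end GrothLib.UCTest
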